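import Cfsg.Prelude.Def_LocalStructure
import Cfsg.Agent.Lib.PReduced.Largest
import Cfsg.Agent.Lib.PReduced.BasicProperty
import Cfsg.Agent.Lib.Coprime.Action
import Cfsg.Agent.Lib.WeakClosure.Basic
import Cfsg.Agent.Lib.Layer.Large
import Cfsg.Agent.Lib.Fusion.Alperin
import Cfsg.Agent.S2845

/-!
The asymmetric case: `M` has the basic property and `Y_M` is asymmetric.  Then `A = O_p(M)` is weakly
closed, every normalizer of a `p`-subgroup over `A` normalizes `A`, and `N(A) ≤ M† = M ⊔ C(Y_M)`.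
-/

set_option autoImplicit false
set_option linter.style.haveILetI false
open Cfsg
open scoped commutatorElement Pointwise

namespace CfsgLib.Asymmetric

open CfsgLib.WeakClosure

variable {G : Type*} [Group G] [Finite G] {p : ℕ} [Fact p.Prime]

/-- The standing hypothesis. -/
structure Hyp (p : ℕ) (S : Sylow p G) (Q M : Subgroup G) : Prop where
  hQp : IsPGroup p Q
  hQ1 : Q ≠ ⊥
  hQS : Q ≤ (S : Subgroup G)
  hQ : Cfsg.IsLarge Q
  hSM : (S : Subgroup G) ≤ M
  hM : Cfsg.IsInFrakM p M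
  hasym : ¬ Cfsg.IsSymmetricIn (Cfsg.largestPReducedOf p M)

/-- Two subgroups `Y`, `Y^g` normalizing each other commute. -/
theorem commutator_eq_bot_of_normalizes {Y : Subgroup G} (hasym : ¬ Cfsg.IsSymmetricIn Y) (g : G)
    (h1 : cg g Y ≤ Subgroup.normalizer (Y : Set G)) (h2 : Y ≤ Subgroup.normalizer (cg g Y : Set G)) :
    ⁅Y, cg g Y⁆ = ⊥ := by
  by_contra hne
  exact hasym ⟨g, hne, le_inf (commutator_le_of_normalizes h1)
    ((Subgroup.commutator_comm _ _).le.trans (commutator_le_of_normalizes h2))⟩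

omit [Fact p.Prime] in
theorem dagger_le_normalizer_largestOf (p : ℕ) (M : Subgroup G) :
    M ⊔ Subgroup.centralizer (Cfsg.largestPReducedOf p M : Set G) ≤
      Subgroup.normalizer (Cfsg.largestPReducedOf p M : Set G) :=
  sup_le (CfsgLib.PReduced.le_normalizer_largestOf p M) (Subgroup.centralizer_le_normalizer _)

omit [Fact p.Prime] in
theorem le_normalizer_centralizer_dagger (p : ℕ) (M : Subgroup G) :
    M ⊔ Subgroup.centralizer (Cfsg.largestPReducedOf p M : Set G) ≤
      Subgroup.normalizer (Subgroup.centralizer (Cfsg.largestPReducedOf p M : Set G) : Set G) :=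
  sup_le ((CfsgLib.PReduced.le_normalizer_largestOf p M).trans
    (CfsgLib.Coprime.le_normalizer_centralizer le_rfl)) Subgroup.le_normalizer

variable {S : Sylow p G} {Q M : Subgroup G}

theorem largestOf_ne_bot (h : Hyp p S Q M) : Cfsg.largestPReducedOf p M ≠ ⊥ :=
  CfsgLib.PReduced.largestOf_ne_bot S h.hSM h.hM.1.1 (CfsgLib.PReduced.cp_of_mem_charP h.hM.1)

/-- `S ∩ C(Y) ≤ A`. -/
theorem sylow_inf_centralizer_le (h : Hyp p S Q M) :
    (S : Subgroup G) ⊓ Subgroup.centralizer (Cfsg.largestPReducedOf p M : Set G) ≤ Cfsg.pCoreOf p M := by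
  set C := Subgroup.centralizer (Cfsg.largestPReducedOf p M : Set G) with hC
  obtain ⟨P⟩ := (inferInstance : Nonempty (Sylow p ↥(M ⊓ C)))
  haveI hPn : (P : Subgroup ↥(M ⊓ C)).Normal := h.hM.2.2.2.2.1 P
  haveI : (P : Subgroup ↥(M ⊓ C)).Characteristic := Sylow.characteristic_of_normal P hPn
  have hMn : M ≤ Subgroup.normalizer ((M ⊓ C : Subgroup G) : Set G) :=
    CfsgLib.Coprime.le_normalizer_inf_of_le Subgroup.le_normalizer
      (le_sup_left.trans (le_normalizer_centralizer_dagger p M))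
  have hPA : (P : Subgroup ↥(M ⊓ C)).map (M ⊓ C).subtype ≤ Cfsg.pCoreOf p M :=
    CfsgLib.PReduced.le_pCoreOf ((Subgroup.map_subtype_le _).trans inf_le_left)
      (CfsgLib.PSolvable.le_normalizer_map_of_characteristic hMn _) (P.2.map _)
  refine le_trans ?_ hPA
  intro x hx
  have hxM : x ∈ M ⊓ C := ⟨h.hSM hx.1, hx.2⟩
  refine ⟨⟨x, hxM⟩, ?_, rfl⟩
  have hpg : IsPGroup p (((S : Subgroup G) ⊓ C).subgroupOf (M ⊓ C)) :=
    (S.2.to_le inf_le_left).comap_of_injective _ (M ⊓ C).subtype_injective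
  obtain ⟨P', hP'⟩ := hpg.exists_le_sylow
  obtain ⟨g, rfl⟩ := MulAction.exists_smul_eq ↥(M ⊓ C) P P'
  rw [Sylow.smul_eq_of_normal] at hP'
  exact hP' hx

/-- `A` is a Sylow subgroup of `C(Y)`. -/
theorem inf_centralizer_eq (h : Hyp p S Q M) {R : Subgroup G} (hR : IsPGroup p R)
    (hAR : Cfsg.pCoreOf p M ≤ R) :
    R ⊓ Subgroup.centralizer (Cfsg.largestPReducedOf p M : Set G) = Cfsg.pCoreOf p M := by
  set C := Subgroup.centralizer (Cfsg.largestPReducedOf p M : Set G) with hC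
  set K := M ⊔ C with hK
  have hle : Cfsg.pCoreOf p M ≤ R ⊓ C :=
    le_inf hAR (CfsgLib.PReduced.pCoreOf_le_centralizer_largestOf p M)
  refine (Subgroup.eq_of_le_of_card_ge hle ?_).symm
  obtain ⟨P, hP⟩ := ((hR.to_le inf_le_left).comap_of_injective K.subtype K.subtype_injective :
    IsPGroup p ((R ⊓ C).subgroupOf K)).exists_le_sylow
  obtain ⟨k, hk⟩ := MulAction.exists_smul_eq K P (S.subtype (h.hSM.trans le_sup_left))
  have hle2 : cg (k : G) (R ⊓ C) ≤ Cfsg.pCoreOf p M := by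
    refine le_trans ?_ (sylow_inf_centralizer_le h)
    rintro _ ⟨x, hx, rfl⟩
    refine ⟨?_, (Subgroup.mem_normalizer_iff.mp (le_normalizer_centralizer_dagger p M k.2) x).mp hx.2⟩
    have hxK : x ∈ K := Subgroup.mem_sup_right hx.2
    have h1 : MulAut.conj k ⟨x, hxK⟩ ∈ ((k • P : Sylow p K) : Subgroup K) :=
      ⟨⟨x, hxK⟩, hP (show (⟨x, hxK⟩ : K) ∈ (R ⊓ C).subgroupOf K from hx), rfl⟩
    rw [hk] at h1
    exact h1
  exact (Subgroup.card_map_of_injective (MulAut.conj (k : G)).injective).ge.trans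
    (Subgroup.card_le_of_le hle2)

/-- A `p`-subgroup of `M†` over `A` normalizes `A`. -/
theorem le_normalizer_of_le_dagger (h : Hyp p S Q M) {R : Subgroup G} (hR : IsPGroup p R)
    (hAR : Cfsg.pCoreOf p M ≤ R)
    (hRK : R ≤ M ⊔ Subgroup.centralizer (Cfsg.largestPReducedOf p M : Set G)) :
    R ≤ Subgroup.normalizer (Cfsg.pCoreOf p M : Set G) := by
  refine le_normalizer_of_forall fun r hr a ha => ?_
  rw [← inf_centralizer_eq h hR hAR]
  exact ⟨R.mul_mem (R.mul_mem hr (hAR ha)) (R.inv_mem hr),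
    (Subgroup.mem_normalizer_iff.mp (le_normalizer_centralizer_dagger p M (hRK hr)) a).mp
      (CfsgLib.PReduced.pCoreOf_le_centralizer_largestOf p M ha)⟩

/-- The main lemma: `N(R) ≤ M†` for a `p`-subgroup `R` of `M†` over `A`. -/
theorem normalizer_le_dagger (h : Hyp p S Q M) {R : Subgroup G} (hR : IsPGroup p R)
    (hAR : Cfsg.pCoreOf p M ≤ R)
    (hRK : R ≤ M ⊔ Subgroup.centralizer (Cfsg.largestPReducedOf p M : Set G)) :
    Subgroup.normalizer (R : Set G) ≤ M ⊔ Subgroup.centralizer (Cfsg.largestPReducedOf p M : Set G) := by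
  set Y := Cfsg.largestPReducedOf p M with hY
  set A := Cfsg.pCoreOf p M with hA
  set N := Subgroup.normalizer (R : Set G) with hN
  have hYA : Y ≤ A := CfsgLib.PReduced.largestOf_le_pCoreOf p M
  have hMY : M ≤ Subgroup.normalizer (Y : Set G) := CfsgLib.PReduced.le_normalizer_largestOf p M
  have hMA : M ≤ Subgroup.normalizer (A : Set G) := CfsgLib.PReduced.le_normalizer_pCoreOf p M
  have hRY : R ≤ Subgroup.normalizer (Y : Set G) := hRK.trans (dagger_le_normalizer_largestOf p M)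
  have hNR : ∀ a ∈ N, cg a A ≤ R := fun a ha =>
    (cg_mono a hAR).trans (cg_eq_of_mem_normalizer ha).le
  -- every word in `M ∪ N` moves `Y` into `A`
  have hword : ∀ (k : ℕ) (w : List G), w.length = k → (∀ a ∈ w, a ∈ M ∨ a ∈ N) → cg w.prod Y ≤ A := by
    intro k
    induction k using Nat.strong_induction_on with
    | _ k ih =>
    intro w hlen hw
    cases w with
    | nil => rw [List.prod_nil, cg_one]; exact hYA
    | cons a u =>
      have hu : ∀ c ∈ u, c ∈ M ∨ c ∈ N := fun c hc => hw c (List.mem_cons_of_mem _ hc)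
      have hlu : u.length < k := by rw [← hlen, List.length_cons]; omega
      have hIu := ih _ hlu u rfl hu
      rw [List.prod_cons, ← cg_cg]
      rcases hw a List.mem_cons_self with ha | ha
      · exact (cg_mono a hIu).trans (cg_eq_of_mem_normalizer (hMA ha)).le
      set g := a * u.prod with hg
      have hgR : cg g Y ≤ R := by rw [hg, ← cg_cg]; exact (cg_mono a hIu).trans (hNR a ha)
      rw [cg_cg, ← hg]
      obtain h0 | ⟨init, b, hib⟩ := List.eq_nil_or_concat' (a :: u)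
      · exact absurd h0 (List.cons_ne_nil a u)
      have hinit : ∀ c ∈ init, c ∈ M ∨ c ∈ N := fun c hc => hw c (by rw [hib]; exact List.mem_append_left _ hc)
      have hli : init.length < k := by rw [← hlen, hib, List.length_append]; simp
      have hgp : g = init.prod * b := by
        rw [hg, ← List.prod_cons, hib, List.prod_append, List.prod_singleton]
      rcases hw b (by rw [hib]; simp) with hb | hb
      · rw [hgp, ← cg_cg, cg_eq_of_mem_normalizer (hMY hb)]
        exact ih _ hli init rfl hinit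
      have hback : cg g⁻¹ Y ≤ R := by
        rw [hgp, mul_inv_rev, ← cg_cg, List.prod_inv_reverse]
        refine (cg_mono _ (ih _ hli (init.map (·⁻¹)).reverse (by simp) ?_)).trans (hNR _ (N.inv_mem hb))
        intro c hc
        rw [List.mem_reverse, List.mem_map] at hc
        obtain ⟨d, hd, rfl⟩ := hc
        exact (hinit d hd).imp M.inv_mem N.inv_mem
      have hYn : Y ≤ Subgroup.normalizer (cg g Y : Set G) := by
        have h1 : cg g (cg g⁻¹ Y) ≤ cg g (Subgroup.normalizer (Y : Set G)) := cg_mono g (hback.trans hRY)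
        rw [cg_cg, mul_inv_cancel, cg_one] at h1
        exact h1.trans (Subgroup.le_normalizer_map _)
      have hbot := commutator_eq_bot_of_normalizes h.hasym g (hgR.trans hRY) hYn
      refine le_trans (le_inf hgR ?_) (inf_centralizer_eq h hR hAR).le
      rw [← Subgroup.commutator_eq_bot_iff_le_centralizer, Subgroup.commutator_comm]
      exact hbot
  set H := Subgroup.closure ((M : Set G) ∪ (N : Set G)) with hH
  have hexists : ∀ x ∈ H, ∃ w : List G, (∀ a ∈ w, a ∈ M ∨ a ∈ N) ∧ w.prod = x := by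
    intro x hx
    induction hx using Subgroup.closure_induction with
    | mem x hx => exact ⟨[x], fun a ha => by rw [List.mem_singleton] at ha; exact ha ▸ hx, by simp⟩
    | one => exact ⟨[], by simp, rfl⟩
    | mul x y _ _ hx hy =>
      obtain ⟨w, hw, rfl⟩ := hx
      obtain ⟨v, hv, rfl⟩ := hy
      exact ⟨w ++ v, fun a ha => (List.mem_append.mp ha).elim (hw a) (hv a), List.prod_append⟩
    | inv x _ hx =>
      obtain ⟨w, hw, rfl⟩ := hx
      refine ⟨(w.map (·⁻¹)).reverse, fun a ha => ?_, (List.prod_inv_reverse w).symm⟩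
      rw [List.mem_reverse, List.mem_map] at ha
      obtain ⟨d, hd, rfl⟩ := ha
      exact (hw d hd).imp M.inv_mem N.inv_mem
  have hMH : M ≤ H := fun x hx => Subgroup.subset_closure (Or.inl hx)
  have hNH : N ≤ H := fun x hx => Subgroup.subset_closure (Or.inr hx)
  set V := ⨆ x : H, cg (x : G) Y with hV
  have hVA : V ≤ A := iSup_le fun x => by
    obtain ⟨w, hw, he⟩ := hexists x x.2
    rw [← he]
    exact hword _ w rfl hw
  have hAM : A ≤ M := Subgroup.map_subtype_le _
  have hHV : H ≤ Subgroup.normalizer (V : Set G) := by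
    refine le_normalizer_of_forall fun x hx v hv => ?_
    have hle : cg x V ≤ V := by
      rw [hV, cg, Subgroup.map_iSup]
      exact iSup_le fun y => le_iSup_of_le (⟨x * y, H.mul_mem hx y.2⟩ : H) (cg_cg x (y : G) Y).le
    exact hle ⟨v, hv, rfl⟩
  have hVP : V ≤ Cfsg.pCoreOf p H :=
    CfsgLib.PReduced.le_pCoreOf ((hVA.trans hAM).trans hMH) hHV
      ((CfsgLib.PReduced.isPGroup_pCoreOf p M).to_le hVA)
  have hne : Cfsg.pCore p H ≠ ⊥ := by
    rw [CfsgLib.PReduced.pCoreOf_ne_bot_iff]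
    intro hb
    refine largestOf_ne_bot h (le_bot_iff.mp ?_)
    rw [← hb]
    exact (le_iSup_of_le (1 : H) (cg_one Y).ge).trans hVP
  have hcp := (Cfsg.Agent.S2845.result Q h.hQp h.hQ1 h.hQ).2.1 H ⟨S, h.hSM.trans hMH⟩ hne
  obtain ⟨X, hHX, hX⟩ := (Set.toFinite (Cfsg.charPSubgroups p G)).exists_le_maximal
    (show H ∈ Cfsg.charPSubgroups p G from ⟨hne, hcp⟩)
  have hXm : X ∈ Cfsg.maxCharPSubgroups p G := ⟨hX.1, fun L hL hXL => le_antisymm (hX.2 hL hXL) hXL⟩
  exact (hNH.trans hHX).trans (h.hM.2.2.1 X hXm (hMH.trans hHX)).le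

theorem pCoreOf_le_dagger (p : ℕ) (M : Subgroup G) :
    Cfsg.pCoreOf p M ≤ M ⊔ Subgroup.centralizer (Cfsg.largestPReducedOf p M : Set G) :=
  (Subgroup.map_subtype_le _).trans le_sup_left

theorem normalizer_pCoreOf_le_dagger (h : Hyp p S Q M) :
    Subgroup.normalizer (Cfsg.pCoreOf p M : Set G) ≤
      M ⊔ Subgroup.centralizer (Cfsg.largestPReducedOf p M : Set G) :=
  normalizer_le_dagger h (CfsgLib.PReduced.isPGroup_pCoreOf p M) le_rfl (pCoreOf_le_dagger p M)

/-- `N(L) ≤ N(A)` for every `p`-subgroup `L` over `A`, and `L ≤ N(A)`. -/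
theorem normalizer_le (h : Hyp p S Q M) {L : Subgroup G} (hL : IsPGroup p L)
    (hAL : Cfsg.pCoreOf p M ≤ L) :
    Subgroup.normalizer (L : Set G) ≤ Subgroup.normalizer (Cfsg.pCoreOf p M : Set G) ∧
      L ≤ Subgroup.normalizer (Cfsg.pCoreOf p M : Set G) := by
  set A := Cfsg.pCoreOf p M with hA
  set K := M ⊔ Subgroup.centralizer (Cfsg.largestPReducedOf p M : Set G) with hK
  have key : ∀ R : Subgroup G, IsPGroup p R → A ≤ R → R ≤ K →
      Subgroup.normalizer (R : Set G) ≤ Subgroup.normalizer (A : Set G) := by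
    intro R hR hAR hRK n hn
    refine mem_normalizer_of_cg_eq (Subgroup.eq_of_le_of_card_ge ?_
      (Subgroup.card_map_of_injective (MulAut.conj n).injective).ge)
    rw [hA, ← inf_centralizer_eq h hR hAR]
    refine le_inf ((cg_mono n inf_le_left).trans (cg_eq_of_mem_normalizer hn).le) ?_
    exact (cg_mono n inf_le_right).trans (cg_eq_of_mem_normalizer
      (le_normalizer_centralizer_dagger p M (normalizer_le_dagger h hR hAR hRK hn))).le
  have hAR : A ≤ L ⊓ K := le_inf hAL (pCoreOf_le_dagger p M)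
  have heq : L ⊓ K = L := by
    by_contra hne
    have hlt := CfsgLib.Fusion.lt_inf_normalizer (p := p) hL (inf_le_left : L ⊓ K ≤ L) hne
    exact hlt.not_ge (le_inf inf_le_left (inf_le_right.trans
      ((key _ (hL.to_le inf_le_left) hAR inf_le_right).trans (normalizer_pCoreOf_le_dagger h))))
  have hLK : L ≤ K := heq ▸ inf_le_right
  exact ⟨key L hL hAL hLK, Subgroup.le_normalizer.trans (key L hL hAL hLK)⟩

theorem le_dagger (h : Hyp p S Q M) {L : Subgroup G} (hL : IsPGroup p L)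
    (hAL : Cfsg.pCoreOf p M ≤ L) :
    L ≤ M ⊔ Subgroup.centralizer (Cfsg.largestPReducedOf p M : Set G) :=
  (normalizer_le h hL hAL).2.trans (normalizer_pCoreOf_le_dagger h)

/-- Two conjugates of `A` in one `p`-subgroup coincide. -/
theorem mem_normalizer_of_cg_le (h : Hyp p S Q M) {T : Subgroup G} (hT : IsPGroup p T)
    (hAT : Cfsg.pCoreOf p M ≤ T) {g : G} (hg : cg g (Cfsg.pCoreOf p M) ≤ T) :
    g ∈ Subgroup.normalizer (Cfsg.pCoreOf p M : Set G) := by
  set A := Cfsg.pCoreOf p M with hA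
  obtain ⟨S₁, hS₁⟩ := hT.exists_le_sylow
  have h1 : (S₁ : Subgroup G) ≤ Subgroup.normalizer (A : Set G) := (normalizer_le h S₁.2 (hAT.trans hS₁)).2
  have hA2 : A ≤ ((g⁻¹ • S₁ : Sylow p G) : Subgroup G) := by
    have := cg_mono g⁻¹ (hg.trans hS₁)
    rwa [cg_inv_cg] at this
  have h2 : ((g⁻¹ • S₁ : Sylow p G) : Subgroup G) ≤ Subgroup.normalizer (A : Set G) :=
    (normalizer_le h (g⁻¹ • S₁).2 hA2).2
  obtain ⟨k, hk⟩ := MulAction.exists_smul_eq (Subgroup.normalizer (A : Set G))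
    ((g⁻¹ • S₁).subtype h2) (S₁.subtype h1)
  rw [Sylow.smul_subtype] at hk
  have hk' : ((k : G) * g⁻¹) • S₁ = S₁ := by
    rw [mul_smul]
    exact Sylow.subtype_injective hk
  have := (normalizer_le h S₁.2 (hAT.trans hS₁)).1 (Sylow.smul_eq_iff_mem_normalizer.mp hk')
  have h3 := (Subgroup.normalizer (A : Set G)).mul_mem
    ((Subgroup.normalizer (A : Set G)).inv_mem this) k.2
  rwa [mul_inv_rev, inv_inv, inv_mul_cancel_right] at h3

/-- `M†` controls fusion in `Y`. -/
theorem exists_conj_eq (h : Hyp p S Q M) {x g : G} (hx : x ∈ Cfsg.largestPReducedOf p M)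
    (hgx : g * x * g⁻¹ ∈ Cfsg.largestPReducedOf p M) : ∃ m ∈ M, m * x * m⁻¹ = g * x * g⁻¹ := by
  set A := Cfsg.pCoreOf p M with hA
  set Cy := Subgroup.centralizer ({g * x * g⁻¹} : Set G) with hCy
  have hAc := CfsgLib.PReduced.pCoreOf_le_centralizer_largestOf p M
  have hA1 : A ≤ Cy := fun a ha => Subgroup.mem_centralizer_singleton_iff.mpr
    (Subgroup.mem_centralizer_iff.mp (hAc ha) _ hgx).symm
  have hA2 : cg g A ≤ Cy := by
    rintro _ ⟨a, ha, rfl⟩
    refine Subgroup.mem_centralizer_singleton_iff.mpr ?_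
    change (MulAut.conj g) a * (MulAut.conj g) x = (MulAut.conj g) x * (MulAut.conj g) a
    rw [← map_mul, ← map_mul, ← Subgroup.mem_centralizer_iff.mp (hAc ha) x hx]
  have hAp := CfsgLib.PReduced.isPGroup_pCoreOf p M
  obtain ⟨P₁, hP₁⟩ := (hAp.of_equiv (Subgroup.subgroupOfEquivOfLe hA1).symm).exists_le_sylow
  obtain ⟨P₂, hP₂⟩ :=
    ((hAp.map (MulAut.conj g).toMonoidHom).of_equiv (Subgroup.subgroupOfEquivOfLe hA2).symm).exists_le_sylow
  obtain ⟨c, hc⟩ := MulAction.exists_smul_eq Cy P₂ P₁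
  have hmem : (c : G) * g ∈ Subgroup.normalizer (A : Set G) := by
    refine mem_normalizer_of_cg_le h (P₁.2.map Cy.subtype) (fun a ha => ⟨⟨a, hA1 ha⟩, hP₁ ha, rfl⟩) ?_
    rw [← cg_cg]
    rintro _ ⟨a, ha, rfl⟩
    refine ⟨MulAut.conj c ⟨a, hA2 ha⟩, ?_, rfl⟩
    have : MulAut.conj c ⟨a, hA2 ha⟩ ∈ ((c • P₂ : Sylow p Cy) : Subgroup Cy) := ⟨⟨a, hA2 ha⟩, hP₂ ha, rfl⟩
    rwa [hc] at this
  obtain ⟨m, hm, d, hd, hmd⟩ := CfsgLib.PReduced.exists_mul_of_mem_sup
    ((CfsgLib.PReduced.le_normalizer_largestOf p M).trans (CfsgLib.Coprime.le_normalizer_centralizer le_rfl))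
    (normalizer_pCoreOf_le_dagger h hmem)
  refine ⟨m, hm, ?_⟩
  have hd' : d * x * d⁻¹ = x := by
    rw [← Subgroup.mem_centralizer_iff.mp hd x hx, mul_inv_cancel_right]
  have hcy : (c : G) * (g * x * g⁻¹) * (c : G)⁻¹ = g * x * g⁻¹ := by
    rw [Subgroup.mem_centralizer_singleton_iff.mp c.2, mul_inv_cancel_right]
  calc m * x * m⁻¹ = m * (d * x * d⁻¹) * m⁻¹ := by rw [hd']
    _ = (c : G) * g * x * ((c : G) * g)⁻¹ := by rw [← hmd]; group
    _ = (c : G) * (g * x * g⁻¹) * (c : G)⁻¹ := by group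
    _ = g * x * g⁻¹ := hcy

end CfsgLib.Asymmetric
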