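import Cfsg.Agent.Lib.Asymmetric.FrakH
import Cfsg.Agent.Lib.Amalgam.IterClosure

/-!
Chief factors of a group `H` inside a normal `p`-subgroup, element-wise.
-/

set_option autoImplicit false
set_option linter.style.haveILetI false
open Cfsg
open scoped commutatorElement Pointwise

namespace CfsgLib.Asymmetric

open CfsgLib.WeakClosure

variable {G : Type*} [Group G] [Finite G] {p : ℕ} [Fact p.Prime]

/-- `V / W` is a factor of `H` inside `O_p(H)` with no `H`-invariant subgroup strictly between. -/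
structure IsFactor (p : ℕ) (H V W : Subgroup G) : Prop where
  leQ : V ≤ Cfsg.pCoreOf p H
  nV : H ≤ Subgroup.normalizer (V : Set G)
  nW : H ≤ Subgroup.normalizer (W : Set G)
  lt : W < V
  simple : ∀ Z : Subgroup G, H ≤ Subgroup.normalizer (Z : Set G) → W ≤ Z → Z ≤ V → Z = W ∨ Z = V

variable {H V W : Subgroup G}

omit [Finite G] [Fact p.Prime] in
theorem IsFactor.le_H (hf : IsFactor p H V W) : V ≤ H := hf.leQ.trans (Subgroup.map_subtype_le _)

theorem IsFactor.commutator_mem (hf : IsFactor p H V W) {u v : G} (hu : u ∈ V) (hv : v ∈ V) :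
    ⁅u, v⁆ ∈ W := by
  have hn : H ≤ Subgroup.normalizer ((⁅V, V⁆ ⊔ W : Subgroup G) : Set G) :=
    le_normalizer_sup (le_normalizer_commutator hf.nV hf.nV) hf.nW
  rcases hf.simple _ hn le_sup_right (sup_le (Subgroup.commutator_le_self V) hf.lt.le) with h | h
  · exact h.le (Subgroup.mem_sup_left (Subgroup.commutator_mem_commutator hu hv))
  exfalso
  haveI : Group.IsNilpotent ↥V :=
    ((CfsgLib.PReduced.isPGroup_pCoreOf p H).to_le hf.leQ).isNilpotent
  haveI : (W.subgroupOf V).Normal := Subgroup.normal_subgroupOf_of_le_normalizer (hf.le_H.trans hf.nW)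
  have hkey : (⊤ : Subgroup ↥V) ≤ W.subgroupOf V := by
    refine CfsgLib.Amalgam.le_of_le_sup_commutator ?_
    rw [← Subgroup.map_le_map_iff_of_injective V.subtype_injective, Subgroup.map_sup, Subgroup.map_commutator,
      Subgroup.map_subgroupOf_eq_of_le hf.lt.le, ← MonoidHom.range_eq_map, Subgroup.range_subtype, sup_comm]
    exact h.ge
  exact hf.lt.not_ge fun x hx => hkey (x := ⟨x, hx⟩) (Subgroup.mem_top _)

/-- Subgroups between `W` and `V` are normalized by `V`. -/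
theorem IsFactor.le_normalizer (hf : IsFactor p H V W) {Z : Subgroup G} (hWZ : W ≤ Z) (hZV : Z ≤ V) :
    V ≤ Subgroup.normalizer (Z : Set G) := by
  refine le_normalizer_of_forall fun v hv z hz => ?_
  rw [show v * z * v⁻¹ = ⁅v, z⁆ * z by simp [commutatorElement_def, mul_assoc]]
  exact Z.mul_mem (hWZ (hf.commutator_mem hv (hZV hz))) hz

omit [Finite G] in
/-- Coprime action on a section: if `x` moves `u` into `U` and centralizes `U` modulo `W`, it centralizes `u`
modulo `W`. -/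
theorem commutator_mem_of_coprime {W U : Subgroup G} {x u : G} (hx : x ∈ Subgroup.normalizer (W : Set G))
    (hxc : (orderOf x).Coprime p) (hU : ⁅x, u⁆ ∈ U) (hxU : ∀ z ∈ U, ⁅x, z⁆ ∈ W)
    (hp : ∃ k : ℕ, ⁅x, u⁆ ^ p ^ k ∈ W) : ⁅x, u⁆ ∈ W := by
  set r := ⁅x, u⁆ with hr
  have key : ∀ n : ℕ, ⁅x ^ n, u⁆ * (r ^ n)⁻¹ ∈ W := by
    intro n
    induction n with
    | zero => simp
    | succ n ih =>
      have h1 : x * (⁅x ^ n, u⁆ * (r ^ n)⁻¹) * x⁻¹ * ⁅x, r ^ n⁆ ∈ W :=
        W.mul_mem ((Subgroup.mem_normalizer_iff.mp hx _).mp ih) (hxU _ (U.pow_mem hU n))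
      convert h1 using 1
      rw [pow_succ' x n, pow_succ r n, hr]
      simp only [commutatorElement_def]
      group
  have hn := key (orderOf x)
  rw [pow_orderOf_eq_one, commutatorElement_one_left, one_mul, Subgroup.inv_mem_iff] at hn
  obtain ⟨k, hk⟩ := hp
  have hcop : (orderOf x).Coprime (p ^ k) := hxc.pow_right k
  have hg := Int.gcd_eq_gcd_ab (orderOf x : ℤ) ((p ^ k : ℕ) : ℤ)
  rw [Int.gcd_natCast_natCast, hcop] at hg
  rw [← zpow_one r, show (1 : ℤ) = ((1 : ℕ) : ℤ) from rfl, hg, zpow_add, zpow_mul, zpow_mul, zpow_natCast,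
    zpow_natCast]
  exact W.mul_mem (W.zpow_mem hn _) (W.zpow_mem hk _)

/-- A `p'`-element of `H` centralizing every factor of `O_p(H)` is trivial. -/
theorem eq_one_of_coprime (hcp : CfsgLib.CharCore.Cp p H) {x : G} (hxH : x ∈ H)
    (hxc : (orderOf x).Coprime p) (h : ∀ V W : Subgroup G, IsFactor p H V W → ∀ v ∈ V, ⁅x, v⁆ ∈ W) :
    x = 1 := by
  have key : ∀ (k : ℕ) (V : Subgroup G), Nat.card V = k → V ≤ Cfsg.pCoreOf p H →
      H ≤ Subgroup.normalizer (V : Set G) → ∀ v ∈ V, ⁅x, v⁆ = 1 := by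
    intro k
    induction k using Nat.strong_induction_on with
    | _ k ih =>
    intro V hk hVQ hVn v hv
    rcases eq_or_ne v 1 with rfl | hv1
    · simp
    have hb : (⊥ : Subgroup G) ∈ {W : Subgroup G | H ≤ Subgroup.normalizer (W : Set G) ∧ W < V} :=
      ⟨fun g _ => mem_normalizer_of_cg_eq (Subgroup.map_bot _),
        bot_lt_iff_ne_bot.mpr fun e => hv1 (Subgroup.mem_bot.mp (e ▸ hv))⟩
    obtain ⟨W, -, hW⟩ := (Set.toFinite _).exists_le_maximal hb
    have hf : IsFactor p H V W := ⟨hVQ, hVn, hW.1.1, hW.1.2, fun Z hZn hWZ hZV => by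
      by_cases hZ : Z = V
      · exact Or.inr hZ
      · exact Or.inl (le_antisymm (hW.2 ⟨hZn, lt_of_le_of_ne hZV hZ⟩ hWZ) hWZ)⟩
    have hWc : ∀ z ∈ W, ⁅x, z⁆ = 1 := by
      refine ih _ ?_ W rfl (hW.1.2.le.trans hVQ) hW.1.1
      rw [← hk]
      exact lt_of_not_ge fun hge => hW.1.2.ne (Subgroup.eq_of_le_of_card_ge hW.1.2.le hge)
    obtain ⟨n, hn⟩ := CfsgLib.PReduced.isPGroup_pCoreOf p H ⟨⁅x, v⁆, hVQ (hW.1.2.le (h V W hf v hv))⟩
    rw [← Subgroup.mem_bot]
    exact commutator_mem_of_coprime (mem_normalizer_of_cg_eq (Subgroup.map_bot _)) hxc (h V W hf v hv)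
      (fun z hz => Subgroup.mem_bot.mpr (hWc z hz))
      ⟨n, Subgroup.mem_bot.mpr (congrArg Subtype.val hn)⟩
  have hc := key _ _ rfl le_rfl (CfsgLib.PReduced.le_normalizer_pCoreOf p H)
  have hmem : (⟨x, hxH⟩ : H) ∈ Cfsg.pCore p H := hcp (Subgroup.mem_centralizer_iff.mpr fun q hq =>
    Subtype.ext (commutatorElement_eq_one_iff_mul_comm.mp (hc q ⟨q, hq, rfl⟩)).symm)
  obtain ⟨n, hn⟩ := CfsgLib.PReduced.isPGroup_pCoreOf p H ⟨x, ⟨_, hmem, rfl⟩⟩
  have e : x ^ p ^ n = 1 := congrArg Subtype.val hn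
  exact orderOf_eq_one_iff.mp (Nat.eq_one_of_dvd_coprimes (hxc.pow_right n) dvd_rfl
    (orderOf_dvd_of_pow_eq_one e))

/-- A group without nontrivial `p'`-elements is a `p`-group. -/
theorem isPGroup_of_coprime_eq_one {X : Subgroup G} (h : ∀ x ∈ X, (orderOf x).Coprime p → x = 1) :
    IsPGroup p X := by
  intro g
  refine ⟨(orderOf (g : G)).factorization p, Subtype.ext ?_⟩
  rw [Subgroup.coe_pow, Subgroup.coe_one]
  refine h _ (X.pow_mem g.2 _) ?_
  rw [orderOf_pow_of_dvd (pow_ne_zero _ (Fact.out : p.Prime).ne_zero) (Nat.ordProj_dvd _ _)]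
  exact (Nat.coprime_ordCompl (Fact.out : p.Prime) (orderOf_pos (g : G)).ne').symm

end CfsgLib.Asymmetric
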