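import Cfsg.Agent.Lib.Asymmetric.Basic
import Cfsg.Agent.Lib.Layer.CharP
import Cfsg.Agent.Lib.Subnormal.Basic

/-!
Members of `ℌ_G(O_p(M))` in the asymmetric case.
-/

set_option autoImplicit false
set_option linter.style.haveILetI false
open Cfsg
open scoped commutatorElement Pointwise

namespace CfsgLib.Asymmetric

open CfsgLib.WeakClosure

variable {G : Type*} [Group G] [Finite G] {p : ℕ} [Fact p.Prime]

/-- The normal closure of `B` in `H`, inside the ambient group. -/
abbrev nc (H B : Subgroup G) : Subgroup G := ⨆ x : H, cg (x : G) B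

theorem le_nc (H B : Subgroup G) : B ≤ nc H B := le_iSup_of_le (1 : H) (cg_one B).ge

theorem nc_le {H B : Subgroup G} (hB : B ≤ H) : nc H B ≤ H :=
  iSup_le fun x => (cg_mono _ hB).trans (cg_eq_of_mem_normalizer (Subgroup.le_normalizer x.2)).le

theorem le_normalizer_nc (H B : Subgroup G) : H ≤ Subgroup.normalizer (nc H B : Set G) := by
  refine le_normalizer_of_forall fun x hx v hv => ?_
  have hle : cg x (nc H B) ≤ nc H B := by
    rw [nc, cg, Subgroup.map_iSup]
    exact iSup_le fun y => le_iSup_of_le (⟨x * y, H.mul_mem hx y.2⟩ : H) (cg_cg x (y : G) B).le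
  exact hle ⟨v, hv, rfl⟩

theorem normalClosure_map_eq_nc {H B : Subgroup G} (hB : B ≤ H) :
    (Subgroup.normalClosure ((B.subgroupOf H : Subgroup H) : Set H)).map H.subtype = nc H B := by
  refine le_antisymm ?_ (iSup_le fun x => ?_)
  · rw [Subgroup.map_le_iff_le_comap]
    haveI : ((nc H B).comap H.subtype).Normal :=
      Subgroup.normal_subgroupOf_of_le_normalizer (le_normalizer_nc H B)
    exact Subgroup.normalClosure_le_normal fun b hb => le_nc H B hb
  · rintro _ ⟨b, hb, rfl⟩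
    exact ⟨x * ⟨b, hB hb⟩ * x⁻¹,
      Subgroup.normalClosure_normal.conj_mem _
        (Subgroup.subset_normalClosure (show (⟨b, hB hb⟩ : H) ∈ B.subgroupOf H from hb)) x, rfl⟩

theorem le_normalizer_sup {A U W : Subgroup G} (hU : A ≤ Subgroup.normalizer (U : Set G))
    (hW : A ≤ Subgroup.normalizer (W : Set G)) : A ≤ Subgroup.normalizer ((U ⊔ W : Subgroup G) : Set G) := by
  intro a ha
  refine mem_normalizer_of_cg_eq ?_
  rw [cg, Subgroup.map_sup]
  exact congrArg₂ _ (cg_eq_of_mem_normalizer (hU ha)) (cg_eq_of_mem_normalizer (hW ha))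

theorem pCoreOf_le_of_normal {H N : Subgroup G} (hNH : N ≤ H) (hn : H ≤ Subgroup.normalizer (N : Set G)) :
    Cfsg.pCoreOf p N ≤ Cfsg.pCoreOf p H :=
  CfsgLib.PReduced.le_pCoreOf ((Subgroup.map_subtype_le _).trans hNH)
    (CfsgLib.PSolvable.le_normalizer_map_of_characteristic hn _)
    (CfsgLib.PReduced.isPGroup_pCoreOf p N)

theorem pCoreOf_inf_le {X N : Subgroup G} (hNX : N ≤ X) :
    Cfsg.pCoreOf p X ⊓ N ≤ Cfsg.pCoreOf p N :=
  CfsgLib.PReduced.le_pCoreOf inf_le_right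
    (CfsgLib.Coprime.le_normalizer_inf_of_le (hNX.trans (CfsgLib.PReduced.le_normalizer_pCoreOf p X))
      Subgroup.le_normalizer)
    ((CfsgLib.PReduced.isPGroup_pCoreOf p X).to_le inf_le_left)

theorem pCoreOf_cg (g : G) (L : Subgroup G) :
    Cfsg.pCoreOf p (cg g L) = cg g (Cfsg.pCoreOf p L) := by
  change (Cfsg.pCore p ↥(L.map (MulAut.conj g).toMonoidHom)).map _ =
    ((Cfsg.pCore p L).map L.subtype).map (MulAut.conj g).toMonoidHom
  rw [← CfsgLib.CharCore.map_pCore (L.equivMapOfInjective _ (MulAut.conj g).injective),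
    Subgroup.map_map, Subgroup.map_map]
  rfl

/-- `N ⊔ A` has characteristic `p` when `N` has and `A` is a `p`-group normalizing `N`. -/
theorem cp_sup {N A : Subgroup G} (hA : IsPGroup p A) (hAN : A ≤ Subgroup.normalizer (N : Set G))
    (h : CfsgLib.CharCore.Cp p N) : CfsgLib.CharCore.Cp p ↥(N ⊔ A) := by
  set X := N ⊔ A with hX
  haveI := CfsgLib.Fitting.pCore_normal (G := X) p
  haveI : (N.subgroupOf X).Normal :=
    Subgroup.normal_subgroupOf_of_le_normalizer (sup_le Subgroup.le_normalizer hAN)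
  intro c hc
  refine CfsgLib.Fitting.le_pCore (N := Subgroup.centralizer (Cfsg.pCore p X : Set X))
    inferInstance ?_ hc
  intro d
  obtain ⟨v, hv, a, ha, hva⟩ : ∃ v ∈ N, ∃ a ∈ A, v * a = ((d : X) : G) := by
    have hmul := Subgroup.coe_mul_of_right_le_normalizer_left N A hAN
    exact hmul.le (d : X).2
  obtain ⟨k, hk⟩ := hA ⟨a, ha⟩
  have hak : a ^ p ^ k = 1 := congrArg Subtype.val hk
  have hq : QuotientGroup.mk' (N.subgroupOf X) ((d : X) ^ p ^ k) = 1 := by
    have e : (d : X) = ⟨v, Subgroup.mem_sup_left hv⟩ * ⟨a, Subgroup.mem_sup_right ha⟩ := Subtype.ext hva.symm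
    rw [map_pow, e, map_mul, show QuotientGroup.mk' (N.subgroupOf X) (⟨v, Subgroup.mem_sup_left hv⟩ : X) = 1 from
      (QuotientGroup.eq_one_iff (N := N.subgroupOf X) _).mpr hv, one_mul, ← map_pow]
    exact (QuotientGroup.eq_one_iff _).mpr (by
      rw [Subgroup.mem_subgroupOf, Subgroup.coe_pow]
      change a ^ p ^ k ∈ N
      rw [hak]
      exact N.one_mem)
  have hmem : (((d : X) ^ p ^ k : X) : G) ∈ N := (QuotientGroup.eq_one_iff (N := N.subgroupOf X) _).mp hq
  have hcN : (⟨_, hmem⟩ : N) ∈ Cfsg.pCore p N := by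
    refine h (Subgroup.mem_centralizer_iff.mpr fun q hq => Subtype.ext ?_)
    have hqX : (q : G) ∈ Cfsg.pCoreOf p X :=
      pCoreOf_le_of_normal (p := p) le_sup_left (sup_le Subgroup.le_normalizer hAN) ⟨q, hq, rfl⟩
    obtain ⟨q', hq', e⟩ := hqX
    have hd : (d : X) ^ p ^ k ∈ Subgroup.centralizer (Cfsg.pCore p X : Set X) := Subgroup.pow_mem _ d.2 _
    have e2 := congrArg Subtype.val (Subgroup.mem_centralizer_iff.mp hd q' hq')
    simpa [← e] using e2
  obtain ⟨l, hl⟩ := CfsgLib.Fitting.pCore_isPGroup p (⟨⟨_, hmem⟩, hcN⟩ : Cfsg.pCore p N)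
  refine ⟨k + l, Subtype.ext (Subtype.ext ?_)⟩
  have e3 : (((d : X) ^ p ^ k : X) : G) ^ p ^ l = 1 :=
    congrArg (fun z : Cfsg.pCore p N => ((z : N) : G)) hl
  simpa [pow_add, pow_mul] using e3

variable {S : Sylow p G} {Q M H : Subgroup G}

omit [Fact p.Prime] in
theorem largestOf_le_of_pCoreOf_le (hAH : Cfsg.pCoreOf p M ≤ H) :
    Cfsg.largestPReducedOf p M ≤ H :=
  (CfsgLib.PReduced.largestOf_le_pCoreOf p M).trans hAH

theorem pCoreOf_le_normalizer (h : Hyp p S Q M) (hAH : Cfsg.pCoreOf p M ≤ H) :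
    Cfsg.pCoreOf p H ≤ Subgroup.normalizer (Cfsg.pCoreOf p M : Set G) ⊓
      Subgroup.normalizer (Cfsg.largestPReducedOf p M : Set G) := by
  have hp : IsPGroup p ↥(Cfsg.pCoreOf p M ⊔ Cfsg.pCoreOf p H) :=
    IsPGroup.to_sup_of_normal_right' (CfsgLib.PReduced.isPGroup_pCoreOf p M)
      (CfsgLib.PReduced.isPGroup_pCoreOf p H) (hAH.trans (CfsgLib.PReduced.le_normalizer_pCoreOf p H))
  have hle := (normalizer_le h hp le_sup_left).2
  exact le_inf (le_sup_right.trans hle) (le_sup_right.trans (hle.trans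
    ((normalizer_pCoreOf_le_dagger h).trans (dagger_le_normalizer_largestOf p M))))

section FrakH

variable (hH : Cfsg.IsInFrakH p M H)
include hH

theorem le_sup_of_normal {N : Subgroup G} (hNH : N ≤ H) (hn : H ≤ Subgroup.normalizer (N : Set G))
    (hYN : Cfsg.largestPReducedOf p M ≤ N) : H ≤ N ⊔ Cfsg.pCoreOf p M := by
  by_contra hnot
  have hlt : N ⊔ Cfsg.pCoreOf p M < H :=
    lt_of_le_of_ne (sup_le hNH hH.2.1) fun e => hnot e.ge
  have hY := hH.2.2.2 _ le_sup_right hlt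
  exact hH.2.2.1 ((le_inf hY hYN).trans ((pCoreOf_inf_le le_sup_left).trans (pCoreOf_le_of_normal hNH hn)))

theorem opOf_le_of_normal {N : Subgroup G} (hNH : N ≤ H) (hn : H ≤ Subgroup.normalizer (N : Set G))
    (hYN : Cfsg.largestPReducedOf p M ≤ N) : opOf p H ≤ N :=
  opOf_le_of_forall fun _ hx hc => mem_of_coprime (CfsgLib.PReduced.isPGroup_pCoreOf p M)
    (hH.2.1.trans hn) (le_sup_of_normal hH hNH hn hYN hx) hc

theorem eq_top_of_pCoreOf_le {N : Subgroup G} (hNH : N ≤ H) (hn : H ≤ Subgroup.normalizer (N : Set G))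
    (hAN : Cfsg.pCoreOf p M ≤ N) : N = H := by
  by_contra hne
  exact hH.2.2.1 ((hH.2.2.2 N hAN (lt_of_le_of_ne hNH hne)).trans (pCoreOf_le_of_normal hNH hn))

theorem nc_pCoreOf_eq : nc H (Cfsg.pCoreOf p M) = H :=
  eq_top_of_pCoreOf_le hH (nc_le hH.2.1) (le_normalizer_nc _ _) (le_nc _ _)

theorem opOf_sup_eq : opOf p H ⊔ Cfsg.pCoreOf p M = H := by
  refine le_antisymm (sup_le (opOf_le H) hH.2.1) (le_opOf_sup hH.2.1 fun N hN hAN => ?_)
  have hn : H ≤ Subgroup.normalizer ((N.map H.subtype : Subgroup G) : Set G) :=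
    (Subgroup.normal_subgroupOf_iff_le_normalizer (Subgroup.map_subtype_le N)).mp (by
      rw [Subgroup.subgroupOf, Subgroup.comap_map_eq_self_of_injective H.subtype_injective]; exact hN)
  have := eq_top_of_pCoreOf_le hH (Subgroup.map_subtype_le N) hn
    (fun a ha => ⟨⟨a, hH.2.1 ha⟩, hAN ha, rfl⟩)
  refine Subgroup.map_injective H.subtype_injective ?_
  rw [this, ← MonoidHom.range_eq_map, Subgroup.range_subtype]

theorem opOf_sup_largest_eq :
    opOf p H ⊔ Cfsg.largestPReducedOf p M = nc H (Cfsg.largestPReducedOf p M) := by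
  have hYH := largestOf_le_of_pCoreOf_le hH.2.1
  refine le_antisymm (sup_le (opOf_le_of_normal hH (nc_le hYH) (le_normalizer_nc _ _) (le_nc _ _))
    (le_nc _ _)) (iSup_le fun x => ?_)
  have hn : H ≤ Subgroup.normalizer ((opOf p H ⊔ Cfsg.largestPReducedOf p M : Subgroup G) : Set G) :=
    (opOf_sup_eq hH).ge.trans (sup_le (le_sup_left.trans Subgroup.le_normalizer)
      (le_normalizer_sup (hH.2.1.trans (le_normalizer_opOf Subgroup.le_normalizer))
        ((Subgroup.map_subtype_le _).trans (CfsgLib.PReduced.le_normalizer_largestOf p M))))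
  exact (cg_mono _ le_sup_right).trans (cg_eq_of_mem_normalizer (hn x.2)).le

theorem commutator_opOf_eq : ⁅opOf p H, Cfsg.largestPReducedOf p M⁆ = opOf p H := by
  set R := opOf p H with hR
  set Y := Cfsg.largestPReducedOf p M with hY
  set A := Cfsg.pCoreOf p M with hA
  have hYA : Y ≤ A := CfsgLib.PReduced.largestOf_le_pCoreOf p M
  have hAY : A ≤ Subgroup.normalizer (Y : Set G) :=
    (Subgroup.map_subtype_le _).trans (CfsgLib.PReduced.le_normalizer_largestOf p M)
  have hHR : H ≤ Subgroup.normalizer (R : Set G) := le_normalizer_opOf Subgroup.le_normalizer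
  have hDR : ⁅R, Y⁆ ≤ R := commutator_le_of_normalizes ((hYA.trans hH.2.1).trans hHR)
  refine le_antisymm hDR ?_
  set D := ⁅R, Y⁆ with hD
  have hRD : R ≤ Subgroup.normalizer ((D ⊔ Y : Subgroup G) : Set G) := by
    intro r hr
    have hle : cg r (D ⊔ Y) ≤ D ⊔ Y := by
      rw [cg, Subgroup.map_sup]
      refine sup_le ((cg_eq_of_mem_normalizer (left_le_normalizer_commutator R Y hr)).le.trans le_sup_left) ?_
      rintro _ ⟨y, hy, rfl⟩
      rw [show (MulAut.conj r).toMonoidHom y = ⁅r, y⁆ * y by simp [commutatorElement_def, mul_assoc]]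
      exact Subgroup.mul_mem_sup (Subgroup.commutator_mem_commutator hr hy) hy
    exact mem_normalizer_of_cg_eq (Subgroup.eq_of_le_of_card_ge hle
      (Subgroup.card_map_of_injective (MulAut.conj r).injective).ge)
  have hHD : H ≤ Subgroup.normalizer ((D ⊔ Y : Subgroup G) : Set G) :=
    (opOf_sup_eq hH).ge.trans (sup_le hRD
      (le_normalizer_sup (le_normalizer_commutator (hH.2.1.trans hHR) hAY) hAY))
  have hle : H ≤ D ⊔ A := (le_sup_of_normal hH
    (sup_le (hDR.trans (opOf_le H)) (hYA.trans hH.2.1)) hHD le_sup_right).trans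
    (sup_le (sup_le le_sup_left (hYA.trans le_sup_right)) le_sup_right)
  exact opOf_le_of_forall fun x hx hc => mem_of_coprime (CfsgLib.PReduced.isPGroup_pCoreOf p M)
    (le_normalizer_commutator (hH.2.1.trans hHR) hAY) (hle hx) hc

/-- A normal subgroup of `H` contains `O^p(H)` or has all its `p`-subgroups in `O_p(H)`. -/
theorem dichotomy {N : Subgroup G} (hNH : N ≤ H) (hn : H ≤ Subgroup.normalizer (N : Set G)) :
    opOf p H ≤ N ∨ ∀ Z : Subgroup G, IsPGroup p Z → Z ≤ N → Z ≤ Cfsg.pCoreOf p H := by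
  set Y := Cfsg.largestPReducedOf p M with hY
  set A := Cfsg.pCoreOf p M with hA
  set Q0 := Cfsg.pCoreOf p H with hQ0
  have hQn : H ≤ Subgroup.normalizer (Q0 : Set G) := CfsgLib.PReduced.le_normalizer_pCoreOf p H
  by_cases hX : N ⊔ A = H
  · exact Or.inl (opOf_le_of_forall fun x hx hc => mem_of_coprime (CfsgLib.PReduced.isPGroup_pCoreOf p M)
      (hH.2.1.trans hn) (hX.ge hx) hc)
  right
  have hYX := hH.2.2.2 _ le_sup_right (lt_of_le_of_ne (sup_le hNH hH.2.1) hX)
  have hYH : Y ≤ H := largestOf_le_of_pCoreOf_le hH.2.1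
  have hYN : ∀ y ∈ Y, ∀ n ∈ N, ⁅y, n⁆ ∈ Q0 := by
    intro y hy n hn'
    refine (pCoreOf_inf_le (p := p) (X := N ⊔ A) (N := N) le_sup_left).trans (pCoreOf_le_of_normal hNH hn)
      ⟨?_, ?_⟩
    · exact commutator_le_of_normalizes ((le_sup_left : N ≤ N ⊔ A).trans
        (CfsgLib.PReduced.le_normalizer_pCoreOf p (N ⊔ A))) (Subgroup.commutator_mem_commutator (hYX hy) hn')
    · rw [commutatorElement_def]
      exact N.mul_mem ((Subgroup.mem_normalizer_iff.mp (hn (hYH hy)) n).mp hn') (N.inv_mem hn')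
  let Cq : Subgroup G :=
    { carrier := {a | a ∈ H ∧ ∀ n ∈ N, ⁅a, n⁆ ∈ Q0}
      one_mem' := ⟨H.one_mem, fun n _ => by rw [commutatorElement_one_left]; exact Q0.one_mem⟩
      mul_mem' := fun {a b} ha hb => ⟨H.mul_mem ha.1 hb.1, fun n hn' => by
        rw [show ⁅a * b, n⁆ = a * ⁅b, n⁆ * a⁻¹ * ⁅a, n⁆ by simp only [commutatorElement_def]; group]
        exact Q0.mul_mem ((Subgroup.mem_normalizer_iff.mp (hQn ha.1) _).mp (hb.2 n hn')) (ha.2 n hn')⟩
      inv_mem' := fun {a} ha => ⟨H.inv_mem ha.1, fun n hn' => by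
        rw [show ⁅a⁻¹, n⁆ = a⁻¹ * ⁅a, n⁆⁻¹ * a⁻¹⁻¹ by simp only [commutatorElement_def]; group]
        exact (Subgroup.mem_normalizer_iff.mp (hQn (H.inv_mem ha.1)) _).mp (Q0.inv_mem (ha.2 n hn'))⟩ }
  have hVC : opOf p H ≤ Cq := by
    refine (le_sup_left.trans (opOf_sup_largest_eq hH).le).trans (iSup_le fun x => ?_)
    rintro _ ⟨y, hy, rfl⟩
    refine ⟨H.mul_mem (H.mul_mem x.2 (hYH hy)) (H.inv_mem x.2), fun n hn' => ?_⟩
    have h1 := hYN y hy ((x : G)⁻¹ * n * x) ((Subgroup.mem_normalizer_iff''.mp (hn x.2) n).mp hn')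
    rw [show ⁅(MulAut.conj (x : G)).toMonoidHom y, n⁆ = (x : G) * ⁅y, (x : G)⁻¹ * n * x⁆ * (x : G)⁻¹ by
      simp only [MulEquiv.coe_toMonoidHom, MulAut.conj_apply, commutatorElement_def]; group]
    exact (Subgroup.mem_normalizer_iff.mp (hQn x.2) _).mp h1
  intro Z₀ hZ₀ hZ₀N
  obtain ⟨P, hP⟩ := (hZ₀.comap_of_injective N.subtype N.subtype_injective).exists_le_sylow
  set Pm := (P : Subgroup N).map N.subtype with hPm
  set Z := Pm ⊔ Q0 with hZ
  have hPmH : Pm ≤ H := (Subgroup.map_subtype_le _).trans hNH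
  have hPn : N ≤ Subgroup.normalizer (Z : Set G) := by
    intro x hx
    have htop := (CfsgLib.Transfer.sylow_sup_pResidual P).ge (Subgroup.mem_top ⟨x, hx⟩)
    have hle : ((P : Subgroup N) ⊔ Cfsg.pResidual p ↥N).map N.subtype ≤ Subgroup.normalizer (Z : Set G) := by
      rw [Subgroup.map_sup]
      refine sup_le (le_sup_left.trans Subgroup.le_normalizer) ?_
      refine opOf_le_of_forall fun a ha hc => ?_
      have haC := hVC (mem_opOf (hNH ha) hc)
      refine mem_normalizer_of_cg_eq (Subgroup.eq_of_le_of_card_ge ?_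
        (Subgroup.card_map_of_injective (MulAut.conj a).injective).ge)
      rw [hZ, cg, Subgroup.map_sup]
      refine sup_le ?_ ((cg_eq_of_mem_normalizer (hQn (hNH ha))).le.trans le_sup_right)
      rintro _ ⟨z, hz, rfl⟩
      rw [show (MulAut.conj a).toMonoidHom z = ⁅a, z⁆ * z by simp [commutatorElement_def, mul_assoc]]
      exact (Pm ⊔ Q0).mul_mem (Subgroup.mem_sup_right (haC.2 z (Subgroup.map_subtype_le _ hz)))
        (Subgroup.mem_sup_left hz)
    exact hle ⟨_, htop, rfl⟩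
  have hZp : IsPGroup p Z :=
    IsPGroup.to_sup_of_normal_right' (P.2.map _) (CfsgLib.PReduced.isPGroup_pCoreOf p H) (hPmH.trans hQn)
  have hZN : Z ⊓ N ≤ Q0 :=
    (CfsgLib.PReduced.le_pCoreOf inf_le_right
      (CfsgLib.Coprime.le_normalizer_inf_of_le hPn Subgroup.le_normalizer) (hZp.to_le inf_le_left)).trans
      (pCoreOf_le_of_normal hNH hn)
  exact fun z hz => hZN ⟨Subgroup.mem_sup_left ⟨⟨z, hZ₀N hz⟩, hP hz, rfl⟩, hZ₀N hz⟩

end FrakH

end CfsgLib.Asymmetric
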