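import Cfsg.Agent.Lib.Asymmetric.Factors
import Cfsg.Agent.Lib.Baer.Basic

/-!
Minimal subgroups `L` of a member `H` of `ℌ_G(O_p(M))` with `Y_M ≰ O_p(L)`: commuting conjugates of `Y_M`
inside `L` coincide.
-/

set_option autoImplicit false
set_option linter.style.haveILetI false
open Cfsg
open scoped commutatorElement Pointwise

namespace CfsgLib.Asymmetric

open CfsgLib.WeakClosure

variable {G : Type*} [Group G] [Finite G] {p : ℕ} [Fact p.Prime]

/-- A minimal subgroup of `H` in which `Y_M` is not contained in `O_p`. -/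
structure MinL (p : ℕ) (M H L : Subgroup G) : Prop where
  le : L ≤ H
  hY : Cfsg.largestPReducedOf p M ≤ L
  notO : ¬ Cfsg.largestPReducedOf p M ≤ Cfsg.pCoreOf p L
  min : ∀ L' : Subgroup G, L' ≤ L → Cfsg.largestPReducedOf p M ≤ L' →
    ¬ Cfsg.largestPReducedOf p M ≤ Cfsg.pCoreOf p L' → L' = L

theorem isPGroup_largestOf (p : ℕ) (M : Subgroup G) : IsPGroup p (Cfsg.largestPReducedOf p M) :=
  CfsgLib.PReduced.isPGroup_of_elementary (CfsgLib.PReduced.largestOf_elementary p M)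

omit [Finite G] in
/-- Elements of `H` centralizing `v` modulo a normal `W`. -/
def fixer {H W : Subgroup G} (hW : H ≤ Subgroup.normalizer (W : Set G)) (v : G) : Subgroup G where
  carrier := {x | x ∈ H ∧ ⁅x, v⁆ ∈ W}
  one_mem' := ⟨H.one_mem, by rw [commutatorElement_one_left]; exact W.one_mem⟩
  mul_mem' := fun {a b} ha hb => ⟨H.mul_mem ha.1 hb.1, by
    rw [show ⁅a * b, v⁆ = a * ⁅b, v⁆ * a⁻¹ * ⁅a, v⁆ by simp only [commutatorElement_def]; group]
    exact W.mul_mem ((Subgroup.mem_normalizer_iff.mp (hW ha.1) _).mp hb.2) ha.2⟩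
  inv_mem' := fun {a} ha => ⟨H.inv_mem ha.1, by
    rw [show ⁅a⁻¹, v⁆ = a⁻¹ * ⁅a, v⁆⁻¹ * a⁻¹⁻¹ by simp only [commutatorElement_def]; group]
    exact (Subgroup.mem_normalizer_iff.mp (hW (H.inv_mem ha.1)) _).mp (W.inv_mem ha.2)⟩

omit [Finite G] [Fact p.Prime] in
/-- Elements of `V` centralized by `Z` modulo `W`. -/
def centMod {H V W : Subgroup G} (hf : IsFactor p H V W) (Z : Subgroup G) : Subgroup G where
  carrier := {v | v ∈ V ∧ ∀ z ∈ Z, ⁅z, v⁆ ∈ W}
  one_mem' := ⟨V.one_mem, fun z _ => by rw [commutatorElement_one_right]; exact W.one_mem⟩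
  mul_mem' := fun {a b} ha hb => ⟨V.mul_mem ha.1 hb.1, fun z hz => by
    rw [show ⁅z, a * b⁆ = ⁅z, a⁆ * (a * ⁅z, b⁆ * a⁻¹) by simp only [commutatorElement_def]; group]
    exact W.mul_mem (ha.2 z hz) ((Subgroup.mem_normalizer_iff.mp (hf.nW (hf.le_H ha.1)) _).mp (hb.2 z hz))⟩
  inv_mem' := fun {a} ha => ⟨V.inv_mem ha.1, fun z hz => by
    rw [show ⁅z, a⁻¹⁆ = a⁻¹ * ⁅z, a⁆⁻¹ * a⁻¹⁻¹ by simp only [commutatorElement_def]; group]
    exact (Subgroup.mem_normalizer_iff.mp (hf.nW (H.inv_mem (hf.le_H ha.1))) _).mp (W.inv_mem (ha.2 z hz))⟩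

variable {S : Sylow p G} {Q M H L : Subgroup G}

theorem MinL.sup_eq (hm : MinL p M H L) (hH : Cfsg.IsInFrakH p M H) : L ⊔ Cfsg.pCoreOf p M = H := by
  by_contra hne
  have hY := hH.2.2.2 _ le_sup_right (lt_of_le_of_ne (sup_le hm.le hH.2.1) hne)
  exact hm.notO ((le_inf hY hm.hY).trans (pCoreOf_inf_le le_sup_left))

theorem MinL.isPGroup_of_ne (hm : MinL p M H L) (hH : Cfsg.IsInFrakH p M H) {l : G} (hl : l ∈ H)
    (hne : cg l (Cfsg.largestPReducedOf p M) ⊔ Cfsg.pCoreOf p M ≠ H) :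
    IsPGroup p ↥(Cfsg.largestPReducedOf p M ⊔ cg l (Cfsg.largestPReducedOf p M)) := by
  set Y := Cfsg.largestPReducedOf p M with hYdef
  set X := cg l Y ⊔ Cfsg.pCoreOf p M with hX
  have hYH : cg l Y ≤ H :=
    (cg_mono l (hm.hY.trans hm.le)).trans (cg_eq_of_mem_normalizer (Subgroup.le_normalizer hl)).le
  have hYX := hH.2.2.2 X le_sup_right (lt_of_le_of_ne (sup_le hYH hH.2.1) hne)
  exact (IsPGroup.to_sup_of_normal_right' ((isPGroup_largestOf p M).map (MulAut.conj l).toMonoidHom)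
    (CfsgLib.PReduced.isPGroup_pCoreOf p X)
    ((le_sup_left : cg l Y ≤ X).trans (CfsgLib.PReduced.le_normalizer_pCoreOf p X))).to_le
    (sup_le (hYX.trans le_sup_right) le_sup_left)

theorem MinL.exists_gen (hm : MinL p M H L) :
    ∃ l ∈ L, ¬ IsPGroup p ↥(Cfsg.largestPReducedOf p M ⊔ cg l (Cfsg.largestPReducedOf p M)) := by
  by_contra hall
  push Not at hall
  set Y := Cfsg.largestPReducedOf p M with hYdef
  obtain ⟨N, hN, hNp, hYN⟩ := CfsgLib.Baer.baer_suzuki (p := p) (Y.subgroupOf L)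
    ((isPGroup_largestOf p M).comap_of_injective L.subtype L.subtype_injective) fun g => by
      refine ((hall g g.2).comap_of_injective L.subtype L.subtype_injective).to_le
        (sup_le (fun x hx => Subgroup.mem_sup_left hx) ?_)
      rintro _ ⟨x, hx, rfl⟩
      exact Subgroup.mem_sup_right ⟨(x : G), hx, rfl⟩
  exact hm.notO fun y hy => ⟨⟨y, hm.hY hy⟩, CfsgLib.Fitting.le_pCore hN hNp (hYN hy), rfl⟩

theorem MinL.gen_eq (hm : MinL p M H L) {l : G} (hl : l ∈ L)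
    (hnp : ¬ IsPGroup p ↥(Cfsg.largestPReducedOf p M ⊔ cg l (Cfsg.largestPReducedOf p M))) :
    Cfsg.largestPReducedOf p M ⊔ cg l (Cfsg.largestPReducedOf p M) = L := by
  set Y := Cfsg.largestPReducedOf p M with hYdef
  refine hm.min _ (sup_le hm.hY ((cg_mono l hm.hY).trans
    (cg_eq_of_mem_normalizer (Subgroup.le_normalizer hl)).le)) le_sup_left fun hle => hnp ?_
  refine (IsPGroup.to_sup_of_normal_right' ((isPGroup_largestOf p M).map (MulAut.conj l).toMonoidHom)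
    (CfsgLib.PReduced.isPGroup_pCoreOf p (Y ⊔ cg l Y))
    ((le_sup_right : cg l Y ≤ Y ⊔ cg l Y).trans (CfsgLib.PReduced.le_normalizer_pCoreOf p _))).to_le
    (sup_le (hle.trans le_sup_right) le_sup_left)

/-- The heart: a conjugate of `Y` inside `L` commuting with `Y` is `Y`. -/
theorem MinL.mem_normalizer_of_commute (h : Hyp p S Q M) (hH : Cfsg.IsInFrakH p M H) (hm : MinL p M H L)
    {m : G} (hmL : m ∈ L)
    (hcomm : ⁅Cfsg.largestPReducedOf p M, cg m (Cfsg.largestPReducedOf p M)⁆ = ⊥) :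
    m ∈ Subgroup.normalizer (Cfsg.largestPReducedOf p M : Set G) := by
  set Y := Cfsg.largestPReducedOf p M with hYdef
  set A := Cfsg.pCoreOf p M with hAdef
  obtain ⟨t, ht, hnp⟩ := hm.exists_gen
  have hgen := hm.gen_eq ht hnp
  have hnp' : ¬ IsPGroup p ↥(Y ⊔ cg t⁻¹ Y) := by
    intro hp
    refine hnp ?_
    have := hp.map (MulAut.conj t).toMonoidHom
    rw [Subgroup.map_sup, sup_comm] at this
    have e : (cg t⁻¹ Y).map (MulAut.conj t).toMonoidHom = Y := by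
      change cg t (cg t⁻¹ Y) = Y
      rw [cg_cg, mul_inv_cancel, cg_one]
    rw [e] at this
    exact this
  have htop : cg t Y ⊔ A = H := by_contra fun hne => hnp (hm.isPGroup_of_ne hH (hm.le ht) hne)
  have htop' : cg t⁻¹ Y ⊔ A = H :=
    by_contra fun hne => hnp' (hm.isPGroup_of_ne hH (hm.le (L.inv_mem ht)) hne)
  have hYH : Y ≤ H := hm.hY.trans hm.le
  have hcgH : ∀ g ∈ L, cg g Y ≤ H := fun g hg =>
    (cg_mono g hYH).trans (cg_eq_of_mem_normalizer (Subgroup.le_normalizer (hm.le hg))).le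
  have hAY : ∀ a ∈ A, ∀ y ∈ Y, a * y = y * a := fun a ha y hy =>
    (Subgroup.mem_centralizer_iff.mp (CfsgLib.PReduced.pCoreOf_le_centralizer_largestOf p M ha) y hy).symm
  have hfactor : ∀ V W : Subgroup G, IsFactor p H V W → ∀ x ∈ A ⊔ cg m A, (orderOf x).Coprime p →
      ∀ v ∈ V, ⁅x, v⁆ ∈ W := by
    intro V W hf x hx hxc
    have hmA : cg m A ≤ H :=
      (cg_mono m hH.2.1).trans (cg_eq_of_mem_normalizer (Subgroup.le_normalizer (hm.le hmL))).le
    have hxH : x ∈ H := sup_le hH.2.1 hmA hx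
    by_cases htriv : ∀ z ∈ H, ∀ v ∈ V, ⁅z, v⁆ ∈ W
    · exact htriv x hxH
    -- fixed points
    have hfix : ∀ v ∈ V, (∀ a ∈ A, ⁅a, v⁆ ∈ W) → (∀ y ∈ cg t Y, ⁅y, v⁆ ∈ W) → v ∈ W := by
      have hFn : H ≤ Subgroup.normalizer (centMod hf H : Set G) := by
        refine le_normalizer_of_forall fun g hg u hu =>
          ⟨(Subgroup.mem_normalizer_iff.mp (hf.nV hg) u).mp hu.1, fun z hz => ?_⟩
        rw [show ⁅z, g * u * g⁻¹⁆ = g * ⁅g⁻¹ * z * g, u⁆ * g⁻¹ by simp only [commutatorElement_def]; group]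
        exact (Subgroup.mem_normalizer_iff.mp (hf.nW hg) _).mp
          (hu.2 _ (H.mul_mem (H.mul_mem (H.inv_mem hg) hz) hg))
      have hWF : W ≤ centMod hf H := fun w hw => ⟨hf.lt.le hw, fun z hz => by
        rw [commutatorElement_def]
        exact W.mul_mem ((Subgroup.mem_normalizer_iff.mp (hf.nW hz) _).mp hw) (W.inv_mem hw)⟩
      rcases hf.simple _ hFn hWF (fun u hu => hu.1) with hF | hF
      · intro v hv hva hvy
        refine hF.le ⟨hv, fun z hz => ?_⟩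
        have hle : H ≤ fixer hf.nW v := htop.ge.trans
          (sup_le (fun y hy => ⟨hcgH t ht hy, hvy y hy⟩) (fun a ha => ⟨hH.2.1 ha, hva a ha⟩))
        exact (hle hz).2
      · exact absurd (fun z hz v hv => (hF.ge hv).2 z hz) htriv
    let Eg : G → Subgroup G := fun g => (cg g Y ⊓ V) ⊔ W
    have hEgV : ∀ g, Eg g ≤ V := fun g => sup_le inf_le_right hf.lt.le
    have hQY : ∀ g ∈ L, V ≤ Subgroup.normalizer (cg g Y : Set G) := by
      intro g hg
      refine (hf.leQ.trans ?_).trans (Subgroup.le_normalizer_map _)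
      refine (cg_eq_of_mem_normalizer ((CfsgLib.PReduced.le_normalizer_pCoreOf p H) (hm.le hg))).ge.trans
        (cg_mono g ((pCoreOf_le_normalizer h hH.2.1).trans inf_le_right))
    have hcomV : ∀ g ∈ L, ∀ z ∈ cg g Y, ∀ v ∈ V, ⁅z, v⁆ ∈ cg g Y ⊓ V := by
      intro g hg z hz v hv
      refine ⟨commutator_le_of_normalizes (hQY g hg) (Subgroup.commutator_mem_commutator hz hv), ?_⟩
      rw [commutatorElement_def]
      exact V.mul_mem ((Subgroup.mem_normalizer_iff.mp (hf.nV (hcgH g hg hz)) _).mp hv) (V.inv_mem hv)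
    have hcomY : ∀ y ∈ Y, ∀ v ∈ V, ⁅y, v⁆ ∈ Y ⊓ V := fun y hy v hv => by
      have := hcomV 1 L.one_mem y (by rw [cg_one]; exact hy) v hv
      rwa [cg_one] at this
    set E := (Y ⊓ V) ⊔ W with hE
    set Cy := centMod hf Y with hCy
    have hEV : E ≤ V := sup_le inf_le_right hf.lt.le
    have hVWn : V ≤ Subgroup.normalizer (W : Set G) := hf.le_H.trans hf.nW
    have hWcent : ∀ z ∈ H, ∀ w ∈ W, ⁅z, w⁆ ∈ W := fun z hz w hw => by
      rw [commutatorElement_def]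
      exact W.mul_mem ((Subgroup.mem_normalizer_iff.mp (hf.nW hz) _).mp hw) (W.inv_mem hw)
    have hAE : ∀ a ∈ A, ∀ e ∈ E, ⁅a, e⁆ ∈ W := by
      intro a ha e he
      obtain ⟨u, hu, w, hw, rfl⟩ :=
        CfsgLib.PReduced.exists_mul_of_mem_sup ((inf_le_right : Y ⊓ V ≤ V).trans hVWn) he
      rw [show ⁅a, u * w⁆ = ⁅a, u⁆ * (u * ⁅a, w⁆ * u⁻¹) by simp only [commutatorElement_def]; group,
        commutatorElement_eq_one_iff_mul_comm.mpr (hAY a ha u hu.1), one_mul]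
      exact (Subgroup.mem_normalizer_iff.mp (hVWn hu.2) _).mp (hWcent a (hH.2.1 ha) w hw)
    have hEC : E ≤ Cy := sup_le (fun u hu => ⟨hu.2, fun y hy => by
        rw [commutatorElement_eq_one_iff_mul_comm.mpr (CfsgLib.PReduced.largestOf_comm p M y hy u hu.1)]
        exact W.one_mem⟩)
      (fun w hw => ⟨hf.lt.le hw, fun y hy => hWcent y (hYH hy) w hw⟩)
    have hCyV : Cy ≤ V := fun v hv => hv.1
    have hWC : W ≤ Cy := le_sup_right.trans hEC
    have hAC : A ≤ Subgroup.normalizer (Cy : Set G) := by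
      refine le_normalizer_of_forall fun a ha v hv =>
        ⟨(Subgroup.mem_normalizer_iff.mp (hf.nV (hH.2.1 ha)) v).mp hv.1, fun y hy => ?_⟩
      rw [show ⁅y, a * v * a⁻¹⁆ = a * ⁅a⁻¹ * y * a, v⁆ * a⁻¹ by simp only [commutatorElement_def]; group,
        show a⁻¹ * y * a = y by rw [mul_assoc, ← hAY a ha y hy, inv_mul_cancel_left]]
      exact (Subgroup.mem_normalizer_iff.mp (hf.nW (hH.2.1 ha)) _).mp (hv.2 y hy)
    have hAV : ∀ a ∈ A, ∀ v ∈ V, ⁅a, v⁆ ∈ Cy := by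
      intro a ha v hv
      have hrV : ⁅a, v⁆ ∈ V := by
        rw [commutatorElement_def]
        exact V.mul_mem ((Subgroup.mem_normalizer_iff.mp (hf.nV (hH.2.1 ha)) v).mp hv) (V.inv_mem hv)
      refine ⟨hrV, fun y hy => ?_⟩
      have hyv := hcomY y hy v hv
      have e1 : ⁅y, ⁅a, v⁆ * v⁆ = ⁅y, v⁆ := by
        rw [show ⁅a, v⁆ * v = a * v * a⁻¹ by simp [commutatorElement_def],
          show ⁅y, a * v * a⁻¹⁆ = a * ⁅a⁻¹ * y * a, v⁆ * a⁻¹ by simp only [commutatorElement_def]; group,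
          show a⁻¹ * y * a = y by rw [mul_assoc, ← hAY a ha y hy, inv_mul_cancel_left],
          hAY a ha _ hyv.1, mul_inv_cancel_right]
      rw [show ⁅y, ⁅a, v⁆ * v⁆ = ⁅y, ⁅a, v⁆⁆ * (⁅a, v⁆ * ⁅y, v⁆ * ⁅a, v⁆⁻¹) by
        simp only [commutatorElement_def]; group] at e1
      rw [show ⁅y, ⁅a, v⁆⁆ = ⁅⁅y, v⁆, ⁅a, v⁆⁆ by
        rw [← eq_mul_inv_iff_mul_eq] at e1
        rw [e1]
        simp only [commutatorElement_def]
        group]
      exact hf.commutator_mem hyv.2 hrV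
    have hdec : ∀ g ∈ L, cg g Y ⊔ A = H → V ≤ Cy ⊔ Eg g := by
      intro g hg hgt
      have hn : H ≤ Subgroup.normalizer ((Cy ⊔ Eg g : Subgroup G) : Set G) := by
        rw [← hgt]
        refine sup_le (le_normalizer_of_forall fun z hz v hv => ?_) (le_normalizer_of_forall fun a ha v hv => ?_)
        · rw [show z * v * z⁻¹ = ⁅z, v⁆ * v by simp [commutatorElement_def]]
          exact (Cy ⊔ Eg g).mul_mem
            (Subgroup.mem_sup_right (Subgroup.mem_sup_left (hcomV g hg z hz v (sup_le hCyV (hEgV g) hv)))) hv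
        · rw [show a * v * a⁻¹ = ⁅a, v⁆ * v by simp [commutatorElement_def]]
          exact (Cy ⊔ Eg g).mul_mem (Subgroup.mem_sup_left (hAV a ha v (sup_le hCyV (hEgV g) hv))) hv
      rcases hf.simple _ hn (hWC.trans le_sup_left) (sup_le hCyV (hEgV g)) with hZ | hZ
      · exfalso
        refine hf.lt.not_ge fun v hv => hZ.le (Subgroup.mem_sup_left (show v ∈ Cy from ⟨hv, fun y hy => ?_⟩))
        exact hZ.le (Subgroup.mem_sup_left (hEC (Subgroup.mem_sup_left (hcomY y hy v hv))))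
      · exact hZ.ge
    have hsplit : ∀ v ∈ V, ∃ c ∈ V, (∀ z ∈ cg t Y, ⁅z, c⁆ ∈ W) ∧ ∃ e ∈ E, c * e = v := by
      intro v hv
      have hv' : t⁻¹ * v * t ∈ V :=
        (Subgroup.mem_normalizer_iff''.mp (hf.nV (hm.le ht)) v).mp hv
      obtain ⟨c, hc, e, he, hce⟩ := CfsgLib.PReduced.exists_mul_of_mem_sup
        (hCyV.trans (hf.le_normalizer (Z := Eg t⁻¹) le_sup_right (hEgV _)))
        (hdec t⁻¹ (L.inv_mem ht) htop' hv')
      have htV : ∀ u ∈ V, t * u * t⁻¹ ∈ V := fun u hu =>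
        (Subgroup.mem_normalizer_iff.mp (hf.nV (hm.le ht)) u).mp hu
      refine ⟨t * c * t⁻¹, htV c hc.1, ?_, t * e * t⁻¹, ?_, by
        rw [show t * c * t⁻¹ * (t * e * t⁻¹) = t * (c * e) * t⁻¹ by group, hce]; group⟩
      · rintro _ ⟨y, hy, rfl⟩
        rw [show ⁅(MulAut.conj t).toMonoidHom y, t * c * t⁻¹⁆ = t * ⁅y, c⁆ * t⁻¹ by
          simp only [MulEquiv.coe_toMonoidHom, MulAut.conj_apply, commutatorElement_def]; group]
        exact (Subgroup.mem_normalizer_iff.mp (hf.nW (hm.le ht)) _).mp (hc.2 y hy)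
      · obtain ⟨u, hu, w, hw, rfl⟩ := CfsgLib.PReduced.exists_mul_of_mem_sup
          ((inf_le_right : cg t⁻¹ Y ⊓ V ≤ V).trans hVWn) he
        obtain ⟨y, hy, rfl⟩ := hu.1
        rw [show t * ((MulAut.conj t⁻¹).toMonoidHom y * w) * t⁻¹ = y * (t * w * t⁻¹) by
          simp only [MulEquiv.coe_toMonoidHom, MulAut.conj_apply]; group]
        refine Subgroup.mul_mem_sup ⟨hy, ?_⟩ ((Subgroup.mem_normalizer_iff.mp (hf.nW (hm.le ht)) w).mp hw)
        have := htV _ hu.2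
        rw [show t * (MulAut.conj t⁻¹).toMonoidHom y * t⁻¹ = y by
          simp only [MulEquiv.coe_toMonoidHom, MulAut.conj_apply]; group] at this
        exact this
    have hCL : ∀ c ∈ V, (∀ y ∈ Y, ⁅y, c⁆ ∈ W) → (∀ z ∈ cg t Y, ⁅z, c⁆ ∈ W) → ∀ l ∈ L, ⁅l, c⁆ ∈ W := by
      intro c _ h1 h2 l hl
      have hle : L ≤ fixer hf.nW c :=
        hgen.ge.trans (sup_le (fun y hy => ⟨hYH hy, h1 y hy⟩) (fun z hz => ⟨hcgH t ht hz, h2 z hz⟩))
      exact (hle hl).2
    have hCy2 : ∀ v ∈ Cy, ∃ c : G, (∀ l ∈ L, ⁅l, c⁆ ∈ W) ∧ ∃ e ∈ E, c * e = v := by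
      intro v hv
      obtain ⟨c, hcV, hc, e, he, hce⟩ := hsplit v hv.1
      refine ⟨c, hCL c hcV ?_ hc, e, he, hce⟩
      have hcC : c ∈ Cy := by
        rw [← mul_inv_cancel_right c e, hce]
        exact Cy.mul_mem hv (Cy.inv_mem (hEC he))
      exact hcC.2
    -- `m` stabilises `E`
    have hUinv : L ≤ Subgroup.normalizer ((E ⊔ Eg t : Subgroup G) : Set G) := by
      rw [← hgen]
      refine sup_le (le_normalizer_of_forall fun y hy v hv => ?_) (le_normalizer_of_forall fun z hz v hv => ?_)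
      · rw [show y * v * y⁻¹ = ⁅y, v⁆ * v by simp [commutatorElement_def]]
        exact (E ⊔ Eg t).mul_mem
          (Subgroup.mem_sup_left (Subgroup.mem_sup_left (hcomY y hy v (sup_le hEV (hEgV t) hv)))) hv
      · rw [show z * v * z⁻¹ = ⁅z, v⁆ * v by simp [commutatorElement_def]]
        exact (E ⊔ Eg t).mul_mem
          (Subgroup.mem_sup_right (Subgroup.mem_sup_left (hcomV t ht z hz v (sup_le hEV (hEgV t) hv)))) hv
    have hmE : cg m E = E := by
      refine Subgroup.eq_of_le_of_card_ge ?_ (Subgroup.card_map_of_injective (MulAut.conj m).injective).ge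
      rintro _ ⟨e, he, rfl⟩
      obtain ⟨u, hu, w, hw, rfl⟩ :=
        CfsgLib.PReduced.exists_mul_of_mem_sup ((inf_le_right : Y ⊓ V ≤ V).trans hVWn) he
      change m * (u * w) * m⁻¹ ∈ E
      rw [show m * (u * w) * m⁻¹ = m * u * m⁻¹ * (m * w * m⁻¹) by group]
      refine E.mul_mem ?_ (Subgroup.mem_sup_right ((Subgroup.mem_normalizer_iff.mp (hf.nW (hm.le hmL)) w).mp hw))
      have hu'V : m * u * m⁻¹ ∈ V := (Subgroup.mem_normalizer_iff.mp (hf.nV (hm.le hmL)) u).mp hu.2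
      have hu'C : m * u * m⁻¹ ∈ Cy := ⟨hu'V, fun y hy => by
        have := Subgroup.commutator_mem_commutator hy (show m * u * m⁻¹ ∈ cg m Y from ⟨u, hu.1, rfl⟩)
        rw [hcomm, Subgroup.mem_bot] at this
        rw [this]
        exact W.one_mem⟩
      obtain ⟨e1, he1, e2, he2, hee⟩ := CfsgLib.PReduced.exists_mul_of_mem_sup
        (hEV.trans (hf.le_normalizer (Z := Eg t) le_sup_right (hEgV t)))
        ((Subgroup.mem_normalizer_iff.mp (hUinv hmL) u).mp (Subgroup.mem_sup_left (Subgroup.mem_sup_left hu)))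
      rw [← hee]
      refine E.mul_mem he1 (Subgroup.mem_sup_right ?_)
      have he2C : e2 ∈ Cy := by
        rw [← inv_mul_cancel_left e1 e2, hee]
        exact Cy.mul_mem (Cy.inv_mem (hEC he1)) hu'C
      obtain ⟨u2, hu2, w2, hw2, rfl⟩ :=
        CfsgLib.PReduced.exists_mul_of_mem_sup ((inf_le_right : cg t Y ⊓ V ≤ V).trans hVWn) he2
      refine W.mul_mem ?_ hw2
      have hu2C : u2 ∈ Cy := by
        rw [← mul_inv_cancel_right u2 w2]
        exact Cy.mul_mem he2C (Cy.inv_mem (hWC hw2))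
      have hu2t : ∀ z ∈ cg t Y, ⁅z, u2⁆ ∈ W := by
        intro z hz
        obtain ⟨y, hy, rfl⟩ := hz
        obtain ⟨y2, hy2, hy2e⟩ := hu2.1
        rw [← hy2e, ← map_commutatorElement, commutatorElement_eq_one_iff_mul_comm.mpr
          (CfsgLib.PReduced.largestOf_comm p M y hy y2 hy2), map_one]
        exact W.one_mem
      refine hfix u2 hu2.2 (fun a ha => ?_) hu2t
      have hl := hCL u2 hu2.2 hu2C.2 hu2t t⁻¹ (L.inv_mem ht)
      obtain ⟨y2, hy2, hy2e⟩ := hu2.1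
      have hy2' : y2 = ⁅t⁻¹, u2⁆ * u2 := by
        rw [← hy2e]
        simp only [MulEquiv.coe_toMonoidHom, MulAut.conj_apply, commutatorElement_def]
        group
      have hu2' : u2 = ⁅t⁻¹, u2⁆⁻¹ * y2 := by rw [hy2', inv_mul_cancel_left]
      rw [hu2', show ⁅a, ⁅t⁻¹, u2⁆⁻¹ * y2⁆ =
        ⁅a, ⁅t⁻¹, u2⁆⁻¹⁆ * (⁅t⁻¹, u2⁆⁻¹ * ⁅a, y2⁆ * ⁅t⁻¹, u2⁆⁻¹⁻¹) by simp only [commutatorElement_def]; group,
        commutatorElement_eq_one_iff_mul_comm.mpr (hAY a ha y2 hy2), mul_one, mul_inv_cancel, mul_one]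
      exact hWcent a (hH.2.1 ha) _ (W.inv_mem hl)
    have hmEn : m ∈ Subgroup.normalizer (E : Set G) := mem_normalizer_of_cg_eq hmE
    have hmCy : ∀ c ∈ Cy, ⁅m, c⁆ ∈ E := by
      intro c hc
      obtain ⟨c1, hc1, e, he, rfl⟩ := hCy2 c hc
      rw [show ⁅m, c1 * e⁆ = ⁅m, c1⁆ * (c1 * ⁅m, e⁆ * c1⁻¹) by simp only [commutatorElement_def]; group]
      refine E.mul_mem (Subgroup.mem_sup_right (hc1 m hmL)) ?_
      have hme : ⁅m, e⁆ ∈ E := by
        rw [commutatorElement_def]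
        exact E.mul_mem ((Subgroup.mem_normalizer_iff.mp hmEn e).mp he) (E.inv_mem he)
      have hc1V : c1 ∈ V := by
        rw [← mul_inv_cancel_right c1 e]
        exact V.mul_mem hc.1 (V.inv_mem (hEV he))
      exact (Subgroup.mem_normalizer_iff.mp (hf.le_normalizer le_sup_right hEV hc1V) _).mp hme
    have hmCn : m ∈ Subgroup.normalizer (Cy : Set G) := by
      refine mem_normalizer_of_cg_eq (Subgroup.eq_of_le_of_card_ge ?_
        (Subgroup.card_map_of_injective (MulAut.conj m).injective).ge)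
      rintro _ ⟨c, hc, rfl⟩
      rw [show (MulAut.conj m).toMonoidHom c = ⁅m, c⁆ * c by simp [commutatorElement_def, mul_assoc]]
      exact Cy.mul_mem (hEC (hmCy c hc)) hc
    -- the stabiliser of the three layers
    set Ng := H ⊓ Subgroup.normalizer (Cy : Set G) ⊓ Subgroup.normalizer (E : Set G) with hNg
    have hAN : A ≤ Ng := by
      refine le_inf (le_inf hH.2.1 hAC) (le_normalizer_of_forall fun a ha e he => ?_)
      rw [show a * e * a⁻¹ = ⁅a, e⁆ * e by simp [commutatorElement_def]]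
      exact E.mul_mem (Subgroup.mem_sup_right (hAE a ha e he)) he
    have hmN : m ∈ Ng := ⟨⟨hm.le hmL, hmCn⟩, hmEn⟩
    let K2 : Subgroup G :=
      { carrier := {z | z ∈ Ng ∧ ∀ c ∈ Cy, ⁅z, c⁆ ∈ E}
        one_mem' := ⟨Ng.one_mem, fun c _ => by rw [commutatorElement_one_left]; exact E.one_mem⟩
        mul_mem' := fun {a b} ha hb => ⟨Ng.mul_mem ha.1 hb.1, fun c hc => by
          rw [show ⁅a * b, c⁆ = a * ⁅b, c⁆ * a⁻¹ * ⁅a, c⁆ by simp only [commutatorElement_def]; group]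
          exact E.mul_mem ((Subgroup.mem_normalizer_iff.mp ha.1.2 _).mp (hb.2 c hc)) (ha.2 c hc)⟩
        inv_mem' := fun {a} ha => ⟨Ng.inv_mem ha.1, fun c hc => by
          rw [show ⁅a⁻¹, c⁆ = a⁻¹ * ⁅a, c⁆⁻¹ * a⁻¹⁻¹ by simp only [commutatorElement_def]; group]
          exact (Subgroup.mem_normalizer_iff.mp (Ng.inv_mem ha.1).2 _).mp (E.inv_mem (ha.2 c hc))⟩ }
    have hNK : Ng ≤ Subgroup.normalizer (K2 : Set G) := by
      refine le_normalizer_of_forall fun g hg z hz =>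
        ⟨Ng.mul_mem (Ng.mul_mem hg hz.1) (Ng.inv_mem hg), fun c hc => ?_⟩
      rw [show ⁅g * z * g⁻¹, c⁆ = g * ⁅z, g⁻¹ * c * g⁆ * g⁻¹ by simp only [commutatorElement_def]; group]
      exact (Subgroup.mem_normalizer_iff.mp hg.2 _).mp
        (hz.2 _ ((Subgroup.mem_normalizer_iff''.mp hg.1.2 c).mp hc))
    have hmK : m ∈ K2 := ⟨hmN, hmCy⟩
    have hx2 : x ∈ K2 := by
      refine mem_of_coprime (CfsgLib.PReduced.isPGroup_pCoreOf p M) (hAN.trans hNK) ?_ hxc
      suffices hle : A ⊔ cg m A ≤ K2 ⊔ A from hle hx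
      refine sup_le le_sup_right ?_
      rintro _ ⟨a, ha, rfl⟩
      rw [show (MulAut.conj m).toMonoidHom a = m * (a * m⁻¹ * a⁻¹) * a by simp [mul_assoc]]
      exact Subgroup.mul_mem_sup
        (K2.mul_mem hmK ((Subgroup.mem_normalizer_iff.mp (hNK (hAN ha)) _).mp (K2.inv_mem hmK))) ha
    have hx0 : ∀ e ∈ E, ⁅x, e⁆ ∈ W := by
      intro e he
      suffices hle : A ⊔ cg m A ≤ fixer hf.nW e from (hle hx).2
      refine sup_le (fun a ha => ⟨hH.2.1 ha, hAE a ha e he⟩) ?_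
      rintro _ ⟨a, ha, rfl⟩
      refine ⟨hmA ⟨a, ha, rfl⟩, ?_⟩
      rw [show ⁅(MulAut.conj m).toMonoidHom a, e⁆ = m * ⁅a, m⁻¹ * e * m⁆ * m⁻¹ by
        simp only [MulEquiv.coe_toMonoidHom, MulAut.conj_apply, commutatorElement_def]; group]
      exact (Subgroup.mem_normalizer_iff.mp (hf.nW (hm.le hmL)) _).mp
        (hAE a ha _ ((Subgroup.mem_normalizer_iff''.mp hmEn e).mp he))
    have hx1 : ∀ v ∈ V, ⁅x, v⁆ ∈ Cy := by
      let S1 : Subgroup G :=
        { carrier := {z | z ∈ Ng ∧ ∀ v ∈ V, ⁅z, v⁆ ∈ Cy}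
          one_mem' := ⟨Ng.one_mem, fun c _ => by rw [commutatorElement_one_left]; exact Cy.one_mem⟩
          mul_mem' := fun {a b} ha hb => ⟨Ng.mul_mem ha.1 hb.1, fun c hc => by
            rw [show ⁅a * b, c⁆ = a * ⁅b, c⁆ * a⁻¹ * ⁅a, c⁆ by simp only [commutatorElement_def]; group]
            exact Cy.mul_mem ((Subgroup.mem_normalizer_iff.mp ha.1.1.2 _).mp (hb.2 c hc)) (ha.2 c hc)⟩
          inv_mem' := fun {a} ha => ⟨Ng.inv_mem ha.1, fun c hc => by
            rw [show ⁅a⁻¹, c⁆ = a⁻¹ * ⁅a, c⁆⁻¹ * a⁻¹⁻¹ by simp only [commutatorElement_def]; group]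
            exact (Subgroup.mem_normalizer_iff.mp (Ng.inv_mem ha.1).1.2 _).mp (Cy.inv_mem (ha.2 c hc))⟩ }
      intro v hv
      suffices hle : A ⊔ cg m A ≤ S1 from (hle hx).2 v hv
      refine sup_le (fun a ha => ⟨hAN ha, hAV a ha⟩) ?_
      rintro _ ⟨a, ha, rfl⟩
      refine ⟨Ng.mul_mem (Ng.mul_mem hmN (hAN ha)) (Ng.inv_mem hmN), fun v hv => ?_⟩
      rw [show ⁅(MulAut.conj m).toMonoidHom a, v⁆ = m * ⁅a, m⁻¹ * v * m⁆ * m⁻¹ by
        simp only [MulEquiv.coe_toMonoidHom, MulAut.conj_apply, commutatorElement_def]; group]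
      exact (Subgroup.mem_normalizer_iff.mp hmCn _).mp
        (hAV a ha _ ((Subgroup.mem_normalizer_iff''.mp (hf.nV (hm.le hmL)) v).mp hv))
    have hpw : ∀ r ∈ V, ∃ k : ℕ, r ^ p ^ k ∈ W := fun r hr => by
      obtain ⟨k, hk⟩ := CfsgLib.PReduced.isPGroup_pCoreOf p H ⟨r, hf.leQ hr⟩
      refine ⟨k, ?_⟩
      rw [show r ^ p ^ k = 1 from congrArg Subtype.val hk]
      exact W.one_mem
    have hxW : x ∈ Subgroup.normalizer (W : Set G) := hf.nW hxH
    have hxC : ∀ c ∈ Cy, ⁅x, c⁆ ∈ W := fun c hc =>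
      commutator_mem_of_coprime hxW hxc (hx2.2 c hc) hx0 (hpw _ (hEV (hx2.2 c hc)))
    exact fun v hv => commutator_mem_of_coprime hxW hxc (hx1 v hv) hxC (hpw _ (hCyV (hx1 v hv)))
  have hXH : A ⊔ cg m A ≤ H := sup_le hH.2.1
    ((cg_mono m hH.2.1).trans (cg_eq_of_mem_normalizer (Subgroup.le_normalizer (hm.le hmL))).le)
  have hXp : IsPGroup p ↥(A ⊔ cg m A) := isPGroup_of_coprime_eq_one fun x hx hxc =>
    eq_one_of_coprime hH.1 (hXH hx) hxc fun V W hf => hfactor V W hf x hx hxc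
  exact dagger_le_normalizer_largestOf p M
    (normalizer_pCoreOf_le_dagger h (mem_normalizer_of_cg_le h hXp le_sup_left le_sup_right))

/-- `p`-subgroups of `L` containing `Y` normalize it. -/
theorem MinL.le_normalizer_of_isPGroup (h : Hyp p S Q M) (hH : Cfsg.IsInFrakH p M H) (hm : MinL p M H L)
    {T : Subgroup G} (hT : IsPGroup p T) (hTL : T ≤ L) (hYT : Cfsg.largestPReducedOf p M ≤ T) :
    T ≤ Subgroup.normalizer (Cfsg.largestPReducedOf p M : Set G) := by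
  set Y := Cfsg.largestPReducedOf p M with hYdef
  set T0 := T ⊓ Subgroup.normalizer (Y : Set G) with hT0
  by_contra hnot
  have hne : T0 ≠ T := fun e => hnot (e ▸ inf_le_right)
  have hlt := CfsgLib.Fusion.lt_inf_normalizer (p := p) hT (inf_le_left : T0 ≤ T) hne
  obtain ⟨t, ht, htT0⟩ := SetLike.exists_of_lt hlt
  apply htT0
  refine ⟨ht.1, hm.mem_normalizer_of_commute h hH (hTL ht.1) ?_⟩
  have hY0 : Y ≤ T0 := le_inf hYT Subgroup.le_normalizer
  have hc0 : cg t T0 = T0 := cg_eq_of_mem_normalizer ht.2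
  refine commutator_eq_bot_of_normalizes h.hasym t
    (((cg_mono t hY0).trans hc0.le).trans inf_le_right) (hY0.trans ?_)
  rw [← hc0]
  exact (cg_mono t inf_le_right).trans (Subgroup.le_normalizer_map _)

/-- `Y` is the only `L`-conjugate of itself in a `p`-subgroup of `L` over `Y`. -/
theorem MinL.cg_eq_of_le (h : Hyp p S Q M) (hH : Cfsg.IsInFrakH p M H) (hm : MinL p M H L)
    {T : Subgroup G} (hT : IsPGroup p T) (hTL : T ≤ L) (hYT : Cfsg.largestPReducedOf p M ≤ T)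
    {l : G} (hl : l ∈ L) (hlT : cg l (Cfsg.largestPReducedOf p M) ≤ T) :
    cg l (Cfsg.largestPReducedOf p M) = Cfsg.largestPReducedOf p M := by
  set Y := Cfsg.largestPReducedOf p M with hYdef
  have h1 := hm.le_normalizer_of_isPGroup h hH hT hTL hYT
  have h2 : cg l⁻¹ T ≤ Subgroup.normalizer (Y : Set G) := by
    refine hm.le_normalizer_of_isPGroup h hH (hT.map _) ((cg_mono _ hTL).trans
      (cg_eq_of_mem_normalizer (Subgroup.le_normalizer (L.inv_mem hl))).le) ?_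
    have := cg_mono l⁻¹ hlT
    rwa [cg_inv_cg] at this
  have h3 : T ≤ Subgroup.normalizer (cg l Y : Set G) := by
    have := (cg_mono l h2).trans (Subgroup.le_normalizer_map _)
    rwa [cg_cg, mul_inv_cancel, cg_one] at this
  exact cg_eq_of_mem_normalizer (hm.mem_normalizer_of_commute h hH hl
    (commutator_eq_bot_of_normalizes h.hasym l (hlT.trans h1) (hYT.trans h3)))

/-- A proper subgroup of `L` containing `Y` normalizes it. -/
theorem MinL.le_normalizer_of_ne (h : Hyp p S Q M) (hH : Cfsg.IsInFrakH p M H) (hm : MinL p M H L)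
    {X : Subgroup G} (hXL : X ≤ L) (hYX : Cfsg.largestPReducedOf p M ≤ X) (hne : X ≠ L) :
    X ≤ Subgroup.normalizer (Cfsg.largestPReducedOf p M : Set G) := by
  have hY : Cfsg.largestPReducedOf p M ≤ Cfsg.pCoreOf p X :=
    by_contra fun hn => hne (hm.min X hXL hYX hn)
  intro x hx
  exact mem_normalizer_of_cg_eq (hm.cg_eq_of_le h hH (CfsgLib.PReduced.isPGroup_pCoreOf p X)
    ((Subgroup.map_subtype_le _).trans hXL) hY (hXL hx)
    ((cg_mono x hY).trans (cg_eq_of_mem_normalizer (CfsgLib.PReduced.le_normalizer_pCoreOf p X hx)).le))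

end CfsgLib.Asymmetric
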